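import Groth.Agent.Lib.GenHom20.Main
import Groth.Agent.Lib.GrNoeth9.EulerEvent

/-!
# Tango's bundle: the coefficients and the linear forms as maps `O(-1) ⟶ O`
-/

set_option autoImplicit false
set_option backward.isDefEq.respectTransparency false
set_option linter.style.haveILetI false
set_option maxHeartbeats 800000

universe u

open CategoryTheory CategoryTheory.Limits AlgebraicGeometry TopologicalSpace Opposite
open GrothLib.GenHom20 (P O mTop mulN evT_mulN_app)
open GrothLib.Ample.ProjTwist (ev evT evT_ext evT_smul)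

noncomputable section

namespace GrothLib.Tango28

variable {n : ℕ} {k : Type u} [Field k]

/-- The coefficient of `e_s` in `β(e_i, e_j)`. -/
def C (i j s : ℕ) : k :=
  if i + j = s + 1 then (if i < j then 1 else if j < i then -1 else 0) else 0

theorem C_swap (i j s : ℕ) : C (k := k) i j s = -C j i s := by
  unfold C
  rw [add_comm j i]
  split_ifs <;> first | omega | simp

theorem C_lt {i j s : ℕ} (h : i + j = s + 1) (hij : i < j) : C (k := k) i j s = 1 := by
  rw [C, if_pos h, if_pos hij]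

theorem C_ne_zero {i j s : ℕ} (h : i + j = s + 1) (hij : i ≠ j) : C (k := k) i j s ≠ 0 := by
  rw [C, if_pos h]
  rcases lt_or_gt_of_ne hij with h' | h'
  · rw [if_pos h']; exact one_ne_zero
  · rw [if_neg (by omega), if_pos h']; exact neg_ne_zero.2 one_ne_zero

theorem C_eq_zero {i j s : ℕ} (h : i + j ≠ s + 1) : C (k := k) i j s = 0 := by
  rw [C, if_neg h]

/-- Vectors with `β(u, v) = 0` are dependent. -/
theorem exists_eq_smul {u v : Fin (n + 1) → k} (hu : u ≠ 0)
    (h : ∀ s : Fin (2 * n - 1), ∑ i : Fin (n + 1), ∑ j : Fin (n + 1), u i * v j * C (i : ℕ) (j : ℕ) (s : ℕ) = 0) :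
    ∃ c : k, v = c • u := by
  classical
  obtain ⟨a, ha, hamin⟩ : ∃ a : Fin (n + 1), u a ≠ 0 ∧ ∀ i < a, u i = 0 := by
    obtain ⟨i, hi⟩ := Function.ne_iff.1 hu
    have hS : (Finset.univ.filter fun i => u i ≠ 0).Nonempty := ⟨i, Finset.mem_filter.2 ⟨Finset.mem_univ _, hi⟩⟩
    refine ⟨_, (Finset.mem_filter.1 (Finset.min'_mem _ hS)).2, fun l hl => ?_⟩
    by_contra hne
    exact absurd (Finset.min'_le _ l (Finset.mem_filter.2 ⟨Finset.mem_univ _, hne⟩)) (not_le.2 hl)
  refine ⟨v a / u a, ?_⟩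
  by_contra hv
  obtain ⟨w, hw⟩ : ∃ w, w = v - (v a / u a) • u := ⟨_, rfl⟩
  have hw0 : w ≠ 0 := fun h0 => hv (sub_eq_zero.1 (hw ▸ h0))
  have hwa : w a = 0 := by
    rw [hw, Pi.sub_apply, Pi.smul_apply, smul_eq_mul, div_mul_cancel₀ _ ha, sub_self]
  obtain ⟨b, hb, hbmin⟩ : ∃ b : Fin (n + 1), w b ≠ 0 ∧ ∀ i < b, w i = 0 := by
    obtain ⟨i, hi⟩ := Function.ne_iff.1 hw0
    have hS : (Finset.univ.filter fun i => w i ≠ 0).Nonempty := ⟨i, Finset.mem_filter.2 ⟨Finset.mem_univ _, hi⟩⟩
    refine ⟨_, (Finset.mem_filter.1 (Finset.min'_mem _ hS)).2, fun l hl => ?_⟩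
    by_contra hne
    exact absurd (Finset.min'_le _ l (Finset.mem_filter.2 ⟨Finset.mem_univ _, hne⟩)) (not_le.2 hl)
  have hab : (a : ℕ) ≠ b := fun e => hb (Fin.ext e ▸ hwa)
  have h1 := a.isLt
  have h2 := b.isLt
  let s : Fin (2 * n - 1) := ⟨a + b - 1, by omega⟩
  have hs : (a : ℕ) + b = (s : ℕ) + 1 := by show _ = (a : ℕ) + b - 1 + 1; omega
  have halt : ∑ i : Fin (n + 1), ∑ j : Fin (n + 1), u i * u j * C (k := k) (i : ℕ) (j : ℕ) (s : ℕ) = 0 := by
    rw [← Fintype.sum_prod_type']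
    refine Finset.sum_involution (fun p _ => (p.2, p.1)) (fun p _ => ?_) (fun p _ hp he => hp ?_)
      (fun p _ => Finset.mem_univ _) (fun p _ => rfl)
    · rw [C_swap (p.2 : ℕ)]; ring
    · rw [show p.2 = p.1 from congrArg Prod.fst he, C]
      simp
  have hzero : ∑ i : Fin (n + 1), ∑ j : Fin (n + 1), u i * w j * C (k := k) (i : ℕ) (j : ℕ) (s : ℕ) = 0 := by
    have e : ∀ i j : Fin (n + 1), u i * w j * C (k := k) (i : ℕ) (j : ℕ) (s : ℕ) =
        u i * v j * C (i : ℕ) (j : ℕ) (s : ℕ) - (v a / u a) * (u i * u j * C (i : ℕ) (j : ℕ) (s : ℕ)) := fun i j => by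
      rw [hw, Pi.sub_apply, Pi.smul_apply, smul_eq_mul]; ring
    simp only [e, Finset.sum_sub_distrib, ← Finset.mul_sum, h s, halt, mul_zero, sub_zero]
  rw [Finset.sum_eq_single a (fun i _ hi => Finset.sum_eq_zero fun j _ => ?_)
      (fun h => absurd (Finset.mem_univ a) h),
    Finset.sum_eq_single b (fun j _ hj => ?_) (fun h => absurd (Finset.mem_univ b) h)] at hzero
  · exact mul_ne_zero (mul_ne_zero ha hb) (C_ne_zero hs hab) hzero
  · by_contra hne
    have hwj : w j ≠ 0 := fun h0 => hne (by rw [h0, mul_zero, zero_mul])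
    have hCj : (a : ℕ) + j = (s : ℕ) + 1 := by_contra fun h0 => hne (by rw [C_eq_zero h0, mul_zero])
    exact hj (Fin.ext (by omega))
  · by_contra hne
    have hui : u i ≠ 0 := fun h0 => hne (by rw [h0, zero_mul, zero_mul])
    have hwj : w j ≠ 0 := fun h0 => hne (by rw [h0, mul_zero, zero_mul])
    have hC : (i : ℕ) + j = (s : ℕ) + 1 := by_contra fun h0 => hne (by rw [C_eq_zero h0, mul_zero])
    have h3 : (a : ℕ) ≤ i := not_lt.1 fun hl => hui (hamin i hl)
    have h4 : (b : ℕ) ≤ j := not_lt.1 fun hl => hwj (hbmin j hl)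
    exact hi (Fin.ext (by omega))

/-- A linear map for which every vector is an eigenvector is a scalar. -/
theorem exists_scalar_of_eigen {B : Fin (n + 1) → Fin (n + 1) → k}
    (h : ∀ u : Fin (n + 1) → k, u ≠ 0 → ∃ c : k, (fun j => ∑ l, B j l * u l) = c • u) :
    ∃ c : k, ∀ j l, B j l = if j = l then c else 0 := by
  classical
  have hd : ∀ l, ∃ c : k, ∀ j, B j l = if j = l then c else 0 := fun l => by
    obtain ⟨c, hc⟩ := h (Pi.single l 1) (by simp)
    refine ⟨c, fun j => ?_⟩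
    have := congrFun hc j
    simpa [Pi.single_apply] using this
  choose c hc using hd
  refine ⟨c 0, fun j l => ?_⟩
  suffices hcl : c l = c 0 by rw [hc l j, hcl]
  by_cases hl : l = 0
  · rw [hl]
  obtain ⟨d, hd⟩ := h (Pi.single l 1 + Pi.single 0 1) (fun h0 => by
    have := congrFun h0 l
    simp [hl] at this)
  have h1 := congrFun hd l
  have h2 := congrFun hd 0
  simp [Pi.single_apply, mul_add, Finset.sum_add_distrib, hc, hl, Ne.symm hl] at h1 h2
  rw [h1, h2]

/-- The linear form with given coefficients. -/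
def form : (Fin (n + 1) → k) →ₗ[k] MvPolynomial (Fin (n + 1)) k :=
  Fintype.linearCombination k fun i : Fin (n + 1) => MvPolynomial.X i

theorem form_apply (c : Fin (n + 1) → k) : form c = ∑ i, c i • MvPolynomial.X i :=
  Fintype.linearCombination_apply _ _ _

theorem form_mem (c : Fin (n + 1) → k) : form c ∈ CohB1.polyGrading n k 1 := by
  rw [form_apply]
  exact Submodule.sum_mem _ fun i _ => Submodule.smul_mem _ _ (Ample.ProjMap.X_mem i)

theorem coeff_form (c : Fin (n + 1) → k) (l : Fin (n + 1)) :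
    MvPolynomial.coeff (Finsupp.single l 1) (form c) = c l := by
  classical
  simp [form_apply, MvPolynomial.coeff_sum, MvPolynomial.coeff_X', Finsupp.single_left_inj]

theorem form_ne_zero {c : Fin (n + 1) → k} (hc : c ≠ 0) : form c ≠ 0 := fun h => hc (funext fun l => by
  rw [← coeff_form c l, h, MvPolynomial.coeff_zero]; rfl)

theorem ev_const (c : k) (V : (P n k).Opens) (y : V) :
    ev (𝒜 := CohB1.polyGrading n k) y ((P n k).presheaf.map (homOfLE (le_top : V ≤ ⊤)).op
        (Coh.toGlobal (P n k ↘ Spec (CommRingCat.of k)) c)) =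
      algebraMap (MvPolynomial (Fin (n + 1)) k) (Twist.Loc (CohB1.polyGrading n k) y.1) (MvPolynomial.C c) := by
  let 𝒜 := CohB1.polyGrading n k
  have hc : (show Γ(Proj 𝒜, ⊤) from Coh.toGlobal (P n k ↘ Spec (CommRingCat.of k)) c) =
      VA.constSec 𝒜 (algebraMap k (𝒜 0) c) := by
    show (Proj.toSpecZero 𝒜 ≫ Spec.map (CommRingCat.ofHom (algebraMap k (𝒜 0)))).appTop
      ((Scheme.ΓSpecIso (CommRingCat.of k)).inv c) = (Proj.toSpecZero 𝒜).appTop _
    rw [Scheme.Hom.comp_appTop, CommRingCat.comp_apply]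
    refine congrArg (fun t => (Proj.toSpecZero 𝒜).appTop t) ?_
    rw [← CommRingCat.comp_apply, ← Scheme.ΓSpecIso_inv_naturality]
    rfl
  refine (Ample.ProjTwist.ev_res (𝒜 := 𝒜) (le_top : V ≤ ⊤)
    (show Γ(Proj 𝒜, ⊤) from Coh.toGlobal (P n k ↘ Spec (CommRingCat.of k)) c) y).trans ?_
  rw [hc, GrNoeth9.ev_constSec]
  rfl

/-- A linear form as a map `O(-1) ⟶ O(0)`. -/
def lin : (Fin (n + 1) → k) →ₗ[k] (O n k (-1) ⟶ O n k 0) where
  toFun c := mulN (CohB1.polyGrading n k) (form c) (form_mem c) (-1) 0 (by norm_num)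
  map_add' c d := Scheme.Modules.hom_ext _ _ fun U => AddCommGrpCat.ext fun m => evT_ext fun y => by
    rw [Scheme.Modules.Hom.add_app]
    show evT y ((mulN _ (form (c + d)) (form_mem _) (-1) 0 _).app U m) =
      evT y ((mulN _ (form c) (form_mem _) (-1) 0 _).app U m) + evT y ((mulN _ (form d) (form_mem _) (-1) 0 _).app U m)
    rw [evT_mulN_app, evT_mulN_app, evT_mulN_app, map_add, map_add, add_mul]
  map_smul' a c := Scheme.Modules.hom_ext _ _ fun U => AddCommGrpCat.ext fun m => evT_ext fun y => by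
    rw [RingHom.id_apply]
    refine Eq.trans ?_ (congrArg (evT y) (KLin.smul_app_apply a _ U m)).symm
    refine Eq.trans ?_ (evT_smul _ _ y).symm
    refine Eq.trans ?_ (congrArg₂ (· * ·) (ev_const a U y) (evT_mulN_app _ (form_mem c) (by norm_num) m y)).symm
    refine (evT_mulN_app _ (form_mem (a • c)) (by norm_num) m y).trans ?_
    show _ = _ * (_ * _)
    rw [map_smul, MvPolynomial.smul_eq_C_mul, map_mul, mul_assoc]

theorem evT_lin_app (c : Fin (n + 1) → k) {U : (P n k).Opens} (m : Γ(O n k (-1), U)) (y : U) :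
    evT (𝒜 := CohB1.polyGrading n k) y ((lin c).app U m) =
      algebraMap _ _ (form c) * evT (𝒜 := CohB1.polyGrading n k) y m :=
  evT_mulN_app _ _ _ m y

theorem bijective_lin {c : Fin (n + 1) → k} {x : P n k} (h : form c ∉ x.asHomogeneousIdeal) :
    Function.Bijective (QCoh.stalkLin (lin c) x) :=
  GenHom20.bijective_stalkLin_mulN _ _ _ h

theorem lin_mem {c : Fin (n + 1) → k} {x : P n k} (h : form c ∈ x.asHomogeneousIdeal)
    (z : (O n k (-1)).presheaf.stalk x) :
    QCoh.stalkLin (lin c) x z ∈ mTop ((P n k).presheaf.stalk x) _ :=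
  GenHom20.stalkLin_mulN_mem _ _ _ h (CMReg.exists_notMem x) z

theorem form_notMem_generic {c : Fin (n + 1) → k} (hc : c ≠ 0) :
    form c ∉ (genericPoint (P n k)).asHomogeneousIdeal := by
  let η : P n k := ⟨⊥, Ideal.isPrime_bot, fun hle => by
    have h1 : (MvPolynomial.X 0 : MvPolynomial (Fin (n + 1)) k) ∈
        (HomogeneousIdeal.irrelevant (CohB1.polyGrading n k)) :=
      HomogeneousIdeal.mem_irrelevant_of_mem _ Nat.one_pos (Ample.ProjMap.X_mem 0)
    exact MvPolynomial.X_ne_zero 0 (Ideal.mem_bot.1 (hle h1))⟩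
  have hη : η ∈ Proj.basicOpen (CohB1.polyGrading n k) (form c) :=
    fun hm => form_ne_zero hc (Ideal.mem_bot.1 hm)
  exact (genericPoint_specializes η).mem_open (Proj.basicOpen (CohB1.polyGrading n k) (form c)).2 hη

/-- Independence of the coordinates as maps of twists. -/
theorem lin_injective : Function.Injective (lin (n := n) (k := k)) := by
  rw [injective_iff_map_eq_zero]
  intro c hc
  by_contra hne
  let η := genericPoint (P n k)
  have hb := bijective_lin (x := η) (form_notMem_generic hne)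
  obtain ⟨_, hf⟩ := GenHom20.finite_stalk (GenHom20.isFinLocFree_O (n := n) (k := k) 0) η
  obtain ⟨β⟩ := GenHom20.nonempty_basis_sigma (n := n) (k := k) 1 0 η
  obtain ⟨w, hw⟩ := hb.2 (QCoh.stalkLin (GenHom20.proj (fun _ : Fin 1 => O n k 0) 0) η (β 0))
  rw [hc, GenHom20.stalkLin_zero] at hw
  have := GenHom20.stalk_decomp (fun _ : Fin 1 => O n k 0) η (β 0)
  rw [Fin.sum_univ_one, ← hw, (QCoh.stalkLin (Sigma.ι (fun _ : Fin 1 => O n k 0) 0) η).map_zero] at this
  exact β.ne_zero 0 this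

end GrothLib.Tango28
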