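import Groth.Agent.Lib.Tango28.Bundle
import Groth.Agent.Lib.NullCorr27.Basic
import Groth.Agent.Lib.SerrePn27.Ext

/-!
# Tango's bundle is simple
-/

set_option autoImplicit false
set_option backward.isDefEq.respectTransparency false
set_option linter.style.haveILetI false
set_option maxHeartbeats 1000000

universe u

open CategoryTheory CategoryTheory.Limits AlgebraicGeometry TopologicalSpace Opposite
open CategoryTheory.Abelian (Ext)
open GrothLib.GenHom20 (P O proj)

noncomputable section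

namespace GrothLib.Tango28

variable {n : ℕ} {k : Type u} [Field k] [HasExt.{u} (P n k).Modules]

theorem subsingleton_ext_O {a b : ℤ} {i : ℕ}
    (h : Subsingleton (Coh.HH (P n k) (O n k (b - a)) i)) : Subsingleton (Ext (O n k a) (O n k b) i) := by
  obtain ⟨e0⟩ := CMReg.nonempty_twist_zero (n := n) (k := k)
  obtain ⟨u⟩ := CMReg.nonempty_twist_add (n := n) (k := k) (add_neg_cancel a)
  obtain ⟨u'⟩ := CMReg.nonempty_twist_add (n := n) (k := k) (neg_add_cancel a)
  obtain ⟨w⟩ := CMReg.nonempty_twist_add (n := n) (k := k) (show (b - a) + a = b by ring)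
  exact SerrePn27.subsingleton_ext_of_tensor (X := CohB1.ProjSpace n k) (L := Twist.twistProjSpace n k a)
    (M := Twist.twistProjSpace n k (-a)) (A := Twist.twistProjSpace n k a) (B := Twist.twistProjSpace n k b)
    (E := Twist.twistProjSpace n k (b - a)) (u ≪≫ e0) (u' ≪≫ e0)
    (OX.tensorUnitLeftIso (X := CohB1.ProjSpace n k) (Twist.twistProjSpace n k a)) w h

theorem subsingleton_ext_into_sigma {A : (P n k).Modules} {b : ℕ} (Y : Fin b → (P n k).Modules) {i : ℕ}
    (h : ∀ l, Subsingleton (Ext A (Y l) i)) : Subsingleton (Ext A (∐ Y) i) := by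
  refine subsingleton_of_forall_eq 0 fun x => ?_
  rw [← Ext.comp_mk₀_id x, ← GenHom20.sum_proj_ι Y, Ext.mk₀_sum, Ext.comp_sum]
  refine Finset.sum_eq_zero fun l _ => ?_
  haveI := h l
  rw [← Ext.mk₀_comp_mk₀, ← Ext.comp_assoc_of_second_deg_zero,
    Subsingleton.elim (x.comp (Ext.mk₀ (proj Y l)) (add_zero i)) 0, Ext.zero_comp]

theorem exists_lift {A : (P n k).Modules} {S : ShortComplex (P n k).Modules} (hS : S.ShortExact)
    (h : Subsingleton (Ext A S.X₁ 1)) (f : A ⟶ S.X₃) : ∃ g : A ⟶ S.X₂, g ≫ S.g = f := by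
  obtain ⟨x, hx⟩ := Ext.covariant_sequence_exact₃ A hS (Ext.mk₀ f) (zero_add 1) (Subsingleton.elim _ _)
  obtain ⟨g, rfl⟩ := (Ext.mk₀_bijective _ _).2 x
  rw [Ext.mk₀_comp_mk₀] at hx
  exact ⟨g, (Ext.mk₀_bijective _ _).1 hx⟩

omit [HasExt.{u} (P n k).Modules] in
/-- Endomorphisms of a twist are constants. -/
theorem exists_eq_smul_id (a : ℤ) (f : O n k a ⟶ O n k a) : ∃ c : k, f = c • 𝟙 _ := by
  obtain ⟨e⟩ := SerrePn27.nonempty_hom_twist_equiv (n := n) (k := k) (zero_add a)
  obtain ⟨e'⟩ := ProjCohom.nonempty_HH_zero (n := n) (R := k) 0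
  have h1 : Module.finrank k (O n k a ⟶ O n k a) = 1 := by
    rw [e.finrank_eq, show (0 : ℤ) = ((0 : ℕ) : ℤ) from rfl, e'.finrank_eq, ProjCohom.finrank_forms, Nat.choose_zero_right]
  have hid : 𝟙 (O n k a) ≠ 0 := fun h => by
    haveI : Subsingleton (O n k a ⟶ O n k a) := subsingleton_of_forall_eq 0 fun g => by
      rw [← Category.id_comp g, h, zero_comp]
    rw [Module.finrank_zero_of_subsingleton] at h1
    exact zero_ne_one h1
  obtain ⟨c, hc⟩ := exists_smul_eq_of_finrank_eq_one h1 hid f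
  exact ⟨c, hc.symm⟩

variable [CharZero k]

theorem subsingleton_ext_K (hn : 2 ≤ n) : Subsingleton (Ext (O n k 0) (K n k) 1) := by
  refine subsingleton_of_forall_eq 0 fun x => ?_
  haveI h2 : Subsingleton (Ext (O n k 0) (O n k (-2)) 2) :=
    subsingleton_ext_O (ProjCohom.subsingleton_HH (by omega) (by omega))
  haveI h1 : Subsingleton (Ext (O n k 0) (Src n k) 1) :=
    subsingleton_ext_into_sigma _ fun _ => subsingleton_ext_O (ProjCohom.subsingleton_HH (by omega) (by omega))
  obtain ⟨y, rfl⟩ := Ext.covariant_sequence_exact₃ (O n k 0) (shortExact₁ (n := n) (k := k)) x (show 1 + 1 = 2 from rfl)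
    (Subsingleton.elim (α := Ext (O n k 0) (O n k (-2)) 2) _ _)
  rw [Subsingleton.elim (α := Ext (O n k 0) (Src n k) 1) y 0, Ext.zero_comp]

/-- Tango's bundle is simple. -/
theorem exists_eq_smul_id_F (hn : 2 ≤ n) (φ : F n k ⟶ F n k) : ∃ c : k, φ = c • 𝟙 (F n k) := by
  classical
  let Y : Fin (2 * n - 1) → (P n k).Modules := fun _ => O n k 0
  let Z : Fin (n + 1) → (P n k).Modules := fun _ => O n k (-1)
  choose a ha using fun t : Fin (2 * n - 1) => exists_lift (shortExact₂ (n := n) (k := k)) (subsingleton_ext_K hn)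
    (Sigma.ι Y t ≫ cokernel.π (M n k) ≫ φ)
  choose A hA using fun (s t : Fin (2 * n - 1)) => exists_eq_smul_id (n := n) (k := k) 0 (a t ≫ proj Y s)
  let Aφ : Tgt n k ⟶ Tgt n k := Sigma.desc a
  have hAφ : Aφ ≫ cokernel.π (M n k) = cokernel.π (M n k) ≫ φ := Sigma.hom_ext _ _ fun t => by
    rw [Sigma.ι_desc_assoc]
    exact ha t
  have hκ : ∀ j : Fin (n + 1), (Sigma.ι Z j ≫ M n k ≫ Aφ) ≫ cokernel.π (M n k) = 0 := fun j => by
    simp only [Category.assoc, hAφ, cokernel.condition_assoc, zero_comp, comp_zero]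
  have hb : ∀ j : Fin (n + 1), ∃ b : O n k (-1) ⟶ Src n k, b ≫ M n k = Sigma.ι Z j ≫ M n k ≫ Aφ := fun j => by
    haveI := (shortExact₂ (n := n) (k := k)).mono_f
    obtain ⟨κ, hκ'⟩ : ∃ κ : O n k (-1) ⟶ K n k, κ ≫ m = Sigma.ι Z j ≫ M n k ≫ Aφ :=
      ⟨(shortExact₂ (n := n) (k := k)).exact.lift _ (hκ j), (shortExact₂ (n := n) (k := k)).exact.lift_f _ (hκ j)⟩
    obtain ⟨b, hb⟩ := exists_lift (shortExact₁ (n := n) (k := k))
      (subsingleton_ext_O (a := -1) (b := -2) (ProjCohom.subsingleton_HH (by omega) (by omega))) κ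
    refine ⟨b, ?_⟩
    rw [← π_m, ← Category.assoc, show b ≫ cokernel.π (yv n k) = κ from hb]
    exact hκ'.trans (by rw [π_m])
  choose b hb using hb
  choose B hB using fun (j' j : Fin (n + 1)) => exists_eq_smul_id (n := n) (k := k) (-1) (b j ≫ proj Z j')
  have hexp : ∀ {X : (P n k).Modules} {r : ℕ} (W : Fin r → (P n k).Modules) (f : X ⟶ ∐ W),
      f = ∑ l, (f ≫ proj W l) ≫ Sigma.ι W l := fun W f => by
    conv_lhs => rw [← Category.comp_id f, ← GenHom20.sum_proj_ι W, Preadditive.comp_sum]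
    simp only [Category.assoc]
  -- the matrix identity
  have hmat : ∀ (i j : Fin (n + 1)) (s : Fin (2 * n - 1)),
      ∑ t : Fin (2 * n - 1), A s t * C (i : ℕ) (j : ℕ) (t : ℕ) =
        ∑ j' : Fin (n + 1), B j' j * C (i : ℕ) (j' : ℕ) (s : ℕ) := by
    intro i j s
    have hl : (Sigma.ι Z j ≫ M n k ≫ Aφ) ≫ proj Y s =
        lin (fun i' : Fin (n + 1) => ∑ t : Fin (2 * n - 1), A s t * C (i' : ℕ) (j : ℕ) (t : ℕ)) := by
      rw [show Sigma.ι Z j ≫ M n k ≫ Aφ = (Sigma.ι Z j ≫ M n k) ≫ Aφ from (Category.assoc _ _ _).symm,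
        hexp Y (Sigma.ι Z j ≫ M n k), Preadditive.sum_comp, Preadditive.sum_comp,
        show (fun i' : Fin (n + 1) => ∑ t : Fin (2 * n - 1), A s t * C (i' : ℕ) (j : ℕ) (t : ℕ)) =
          ∑ t : Fin (2 * n - 1), A s t • (fun i' : Fin (n + 1) => C (i' : ℕ) (j : ℕ) (t : ℕ)) from
            funext fun i' => by simp [Finset.sum_apply], map_sum]
      refine Finset.sum_congr rfl fun t _ => ?_
      simp only [Category.assoc, Aφ, Sigma.ι_desc_assoc]
      rw [hA, Linear.comp_smul, Category.comp_id, Linear.comp_smul, Linear.comp_smul, map_smul]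
      exact congrArg (A s t • ·) (ι_M_proj j t)
    have hr : (b j ≫ M n k) ≫ proj Y s =
        lin (fun i' : Fin (n + 1) => ∑ j' : Fin (n + 1), B j' j * C (i' : ℕ) (j' : ℕ) (s : ℕ)) := by
      rw [hexp Z (b j), Preadditive.sum_comp, Preadditive.sum_comp,
        show (fun i' : Fin (n + 1) => ∑ j' : Fin (n + 1), B j' j * C (i' : ℕ) (j' : ℕ) (s : ℕ)) =
          ∑ j' : Fin (n + 1), B j' j • (fun i' : Fin (n + 1) => C (i' : ℕ) (j' : ℕ) (s : ℕ)) from
            funext fun i' => by simp [Finset.sum_apply], map_sum]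
      refine Finset.sum_congr rfl fun j' _ => ?_
      simp only [Category.assoc]
      rw [ι_M_proj, ← Category.assoc, hB, Linear.smul_comp, Category.id_comp, map_smul]
      rfl
    rw [hb j, hl] at hr
    exact congrFun (lin_injective hr) i
  -- eigenvectors
  obtain ⟨c, hc⟩ := exists_scalar_of_eigen (B := B) fun u hu => by
    refine exists_eq_smul hu fun s => ?_
    have h0 : ∀ t : ℕ, ∑ i : Fin (n + 1), ∑ j : Fin (n + 1), u i * u j * C (k := k) (i : ℕ) (j : ℕ) t = 0 := fun t => by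
      rw [← Fintype.sum_prod_type']
      refine Finset.sum_involution (fun p _ => (p.2, p.1)) (fun p _ => ?_) (fun p _ hp he => hp ?_)
        (fun p _ => Finset.mem_univ _) (fun p _ => rfl)
      · rw [C_swap (p.2 : ℕ)]; ring
      · rw [show p.2 = p.1 from congrArg Prod.fst he, C]
        simp
    calc ∑ i : Fin (n + 1), ∑ j' : Fin (n + 1), u i * (∑ j, B j' j * u j) * C (i : ℕ) (j' : ℕ) (s : ℕ)
        = ∑ i : Fin (n + 1), ∑ j : Fin (n + 1), u i * u j *
            ∑ j' : Fin (n + 1), B j' j * C (i : ℕ) (j' : ℕ) (s : ℕ) := by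
          refine Finset.sum_congr rfl fun i _ => ?_
          simp only [Finset.mul_sum, Finset.sum_mul]
          rw [Finset.sum_comm]
          exact Finset.sum_congr rfl fun _ _ => Finset.sum_congr rfl fun _ _ => by ring
      _ = ∑ t : Fin (2 * n - 1), A s t * ∑ i : Fin (n + 1), ∑ j : Fin (n + 1), u i * u j * C (i : ℕ) (j : ℕ) (t : ℕ) := by
          simp only [← hmat, Finset.mul_sum]
          rw [eq_comm, Finset.sum_comm]
          refine Finset.sum_congr rfl fun i _ => ?_
          rw [Finset.sum_comm]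
          exact Finset.sum_congr rfl fun _ _ => Finset.sum_congr rfl fun _ _ => by ring
      _ = 0 := by simp [h0]
  have hAc : ∀ s t : Fin (2 * n - 1), A s t = if s = t then c else 0 := by
    intro s t
    have ht := t.isLt
    obtain ⟨i, j, hij, hlt⟩ : ∃ i j : Fin (n + 1), (i : ℕ) + j = (t : ℕ) + 1 ∧ (i : ℕ) < j := by
      by_cases h : (t : ℕ) + 1 ≤ n
      · exact ⟨⟨0, by omega⟩, ⟨t + 1, by omega⟩, Nat.zero_add _, Nat.succ_pos _⟩
      · exact ⟨⟨t + 1 - n, by omega⟩, ⟨n, by omega⟩, by show (t : ℕ) + 1 - n + n = _; omega,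
          by show (t : ℕ) + 1 - n < n; omega⟩
    have h := hmat i j s
    rw [Finset.sum_eq_single t (fun t' _ ht' => by
        rw [C_eq_zero (fun h' => ht' (Fin.ext (by omega))), mul_zero]) (fun h => absurd (Finset.mem_univ t) h),
      C_lt hij hlt, mul_one] at h
    simp only [hc, ite_mul, zero_mul, Finset.sum_ite_eq', Finset.mem_univ, if_true] at h
    rw [h]
    by_cases hst : s = t
    · rw [if_pos hst, hst, C_lt hij hlt, mul_one]
    · rw [if_neg hst, C_eq_zero (fun h' => hst (Fin.ext (by omega))), mul_zero]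
  refine ⟨c, ?_⟩
  rw [← cancel_epi (cokernel.π (M n k)), ← hAφ, Linear.comp_smul, Category.comp_id]
  refine Sigma.hom_ext _ _ fun t => ?_
  rw [Sigma.ι_desc_assoc, Linear.comp_smul, hexp Y (a t), Preadditive.sum_comp, Finset.sum_eq_single t
    (fun s _ hs => by rw [hA, hAc, if_neg hs, zero_smul, zero_comp, zero_comp])
    (fun h => absurd (Finset.mem_univ t) h), hA, hAc, if_pos rfl, Linear.smul_comp, Linear.smul_comp, Category.id_comp]

end GrothLib.Tango28
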