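import Groth.Agent.Lib.Tango28.Forms
import Groth.Agent.Lib.GenHom20.Pure

/-!
# Tango's bundle: the two short exact sequences and local freeness
-/

set_option autoImplicit false
set_option backward.isDefEq.respectTransparency false
set_option linter.style.haveILetI false
set_option maxHeartbeats 1000000

universe u

open CategoryTheory CategoryTheory.Limits AlgebraicGeometry TopologicalSpace Opposite
open GrothLib.GenHom20 (P O mTop proj)
open GrothLib.Ample.ProjTwist (ev evT evT_ext evT_smul)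
open GrothLib.QCoh (stalkLin)

noncomputable section

namespace GrothLib.Tango28

variable (n : ℕ) (k : Type u) [Field k]

/-- `O(-1)^{n+1}`. -/
abbrev Src : (P n k).Modules := ∐ fun _ : Fin (n + 1) => O n k (-1)

/-- `O^{2n-1}`. -/
abbrev Tgt : (P n k).Modules := ∐ fun _ : Fin (2 * n - 1) => O n k 0

/-- The matrix entries. -/
def E (s : Fin (2 * n - 1)) (j : Fin (n + 1)) : O n k (-1) ⟶ O n k 0 :=
  lin fun i : Fin (n + 1) => C (i : ℕ) (j : ℕ) (s : ℕ)

/-- The map `β(x, ·) : O(-1)^{n+1} ⟶ O^{2n-1}`. -/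
def M : Src n k ⟶ Tgt n k := GenHom20.matMap (n + 1) (2 * n - 1) (E n k)

/-- The components of the tautological line. -/
def yc (j : Fin (n + 1)) : O n k (-2) ⟶ O n k (-1) := GenHom20.coordMul j 1 (-2) (-1) (by norm_num)

/-- The tautological line. -/
def yv : O n k (-2) ⟶ Src n k := ∑ j, yc n k j ≫ Sigma.ι (fun _ : Fin (n + 1) => O n k (-1)) j

/-- Tango's bundle. -/
abbrev F : (P n k).Modules := cokernel (M n k)

variable {n k}

theorem ι_M_proj (j : Fin (n + 1)) (s : Fin (2 * n - 1)) :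
    Sigma.ι (fun _ : Fin (n + 1) => O n k (-1)) j ≫ M n k ≫ proj (fun _ : Fin (2 * n - 1) => O n k 0) s = E n k s j :=
  GenHom20.ι_matMap_proj _ j s

theorem yv_proj (j : Fin (n + 1)) : yv n k ≫ proj (fun _ : Fin (n + 1) => O n k (-1)) j = yc n k j := by
  rw [yv, Preadditive.sum_comp, Finset.sum_eq_single j
    (fun i _ hi => by rw [Category.assoc, GenHom20.ι_proj_of_ne _ hi, comp_zero]) (fun h => absurd (Finset.mem_univ j) h),
    Category.assoc, GenHom20.ι_proj_self, Category.comp_id]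

theorem form_sum_eq_zero [CharZero k] (s : ℕ) :
    ∑ j : Fin (n + 1), form (fun i : Fin (n + 1) => C (k := k) (i : ℕ) (j : ℕ) s) * MvPolynomial.X j = 0 := by
  classical
  have h : ∀ j : Fin (n + 1), form (fun i : Fin (n + 1) => C (k := k) (i : ℕ) (j : ℕ) s) * MvPolynomial.X j =
      ∑ i : Fin (n + 1), C (k := k) (i : ℕ) (j : ℕ) s • (MvPolynomial.X i * MvPolynomial.X j) := fun j => by
    rw [form_apply, Finset.sum_mul]
    simp only [smul_mul_assoc]
  simp only [h]
  set S := ∑ j : Fin (n + 1), ∑ i : Fin (n + 1),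
    C (k := k) (i : ℕ) (j : ℕ) s • (MvPolynomial.X i * MvPolynomial.X j : MvPolynomial (Fin (n + 1)) k) with hS
  have h2 : S = -S := by
    conv_lhs => rw [hS, Finset.sum_comm]
    rw [hS, ← Finset.sum_neg_distrib]
    refine Finset.sum_congr rfl fun i _ => ?_
    rw [← Finset.sum_neg_distrib]
    refine Finset.sum_congr rfl fun j _ => ?_
    rw [C_swap (i : ℕ), neg_smul, mul_comm]
  exact add_self_eq_zero.1 (eq_neg_iff_add_eq_zero.1 h2)

theorem yv_M [CharZero k] : yv n k ≫ M n k = 0 := by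
  classical
  have key : ∀ s, yv n k ≫ M n k ≫ proj (fun _ : Fin (2 * n - 1) => O n k 0) s = 0 := fun s => by
    rw [yv, Preadditive.sum_comp]
    simp only [Category.assoc, ι_M_proj]
    refine Scheme.Modules.hom_ext _ _ fun U => AddCommGrpCat.ext fun m => evT_ext fun y => ?_
    let ev' : (O n k (-2) ⟶ O n k 0) →+ Twist.Loc (CohB1.polyGrading n k) y.1 :=
      AddMonoidHom.mk' (fun f => evT (𝒜 := CohB1.polyGrading n k) y (f.app U m)) fun f g => by
        rw [Scheme.Modules.Hom.add_app]; rfl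
    show ev' (∑ j, yc n k j ≫ E n k s j) = ev' 0
    rw [map_zero, map_sum]
    have hterm : ∀ j, ev' (yc n k j ≫ E n k s j) =
        algebraMap _ _ (form (fun i : Fin (n + 1) => C (k := k) (i : ℕ) (j : ℕ) (s : ℕ)) * MvPolynomial.X j) *
          evT (𝒜 := CohB1.polyGrading n k) y m := fun j => by
      show evT (𝒜 := CohB1.polyGrading n k) y ((lin _).app U ((yc n k j).app U m)) = _
      rw [evT_lin_app, map_mul, mul_assoc]
      refine congrArg (_ * ·) ((GenHom20.evT_mulN_app _ _ _ m y).trans ?_)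
      rw [pow_one]
    simp only [hterm, ← Finset.sum_mul, ← map_sum, form_sum_eq_zero, map_zero, zero_mul]
  rw [← Category.comp_id (yv n k ≫ M n k), ← GenHom20.sum_proj_ι (fun _ : Fin (2 * n - 1) => O n k 0),
    Preadditive.comp_sum]
  refine Finset.sum_eq_zero fun s _ => ?_
  rw [← Category.assoc, Category.assoc (yv n k), key, zero_comp]

/-- The complement of the tautological line in the chart `X_l ≠ 0`. -/
def incl (l : Fin (n + 1)) : (∐ fun _ : Fin n => O n k (-1)) ⟶ Src n k :=
  Sigma.desc fun j => Sigma.ι (fun _ : Fin (n + 1) => O n k (-1)) (l.succAbove j)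

theorem ι_incl (l : Fin (n + 1)) (j : Fin n) :
    Sigma.ι (fun _ : Fin n => O n k (-1)) j ≫ incl (k := k) l =
      Sigma.ι (fun _ : Fin (n + 1) => O n k (-1)) (l.succAbove j) :=
  Sigma.ι_desc _ _

theorem residual {x : P n k} {l : Fin (n + 1)} (hl : MvPolynomial.X l ∉ x.asHomogeneousIdeal)
    (hl' : ∀ l' : Fin (n + 1), l' < l → MvPolynomial.X l' ∈ x.asHomogeneousIdeal)
    (z : (∐ fun _ : Fin n => O n k (-1)).presheaf.stalk x)
    (hz : stalkLin (incl l ≫ M n k) x z ∈ mTop ((P n k).presheaf.stalk x) _) :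
    z ∈ mTop ((P n k).presheaf.stalk x) _ := by
  refine GenHom20.residual_inj (fun _ : Fin n => O n k (-1)) x (incl l ≫ M n k) (fun j => (j : ℕ)) (fun j => ?_) z hz
  obtain ⟨J, hJ⟩ : ∃ J, J = l.succAbove j := ⟨_, rfl⟩
  have hne : (J : ℕ) ≠ l := fun h => Fin.succAbove_ne l j (hJ ▸ Fin.ext h)
  have h1 := J.isLt
  have h2 := l.isLt
  let s : Fin (2 * n - 1) := ⟨J + l - 1, by omega⟩
  have hs : (J : ℕ) + l = (s : ℕ) + 1 := by show _ = (J : ℕ) + l - 1 + 1; omega
  have hent : ∀ j' : Fin n, Sigma.ι (fun _ : Fin n => O n k (-1)) j' ≫ (incl l ≫ M n k) ≫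
      proj (fun _ : Fin (2 * n - 1) => O n k 0) s = E n k s (l.succAbove j') := fun j' => by
    rw [Category.assoc, ← Category.assoc, ι_incl, ι_M_proj]
  refine ⟨_, proj (fun _ : Fin (2 * n - 1) => O n k 0) s, ?_, fun j' hj' => ?_⟩
  · rw [hent, ← hJ]
    refine bijective_lin fun hm => hl ?_
    rw [form_apply, Finset.sum_eq_single l (fun i _ hi => ?_) (fun h => absurd (Finset.mem_univ l) h)] at hm
    · have hc : C (k := k) (l : ℕ) (J : ℕ) (s : ℕ) ≠ 0 := C_ne_zero (by omega) (Ne.symm hne)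
      rw [MvPolynomial.smul_eq_C_mul] at hm
      have := x.asHomogeneousIdeal.toIdeal.mul_mem_left
        (MvPolynomial.C (C (k := k) (l : ℕ) (J : ℕ) (s : ℕ))⁻¹) hm
      rwa [← mul_assoc, ← map_mul, inv_mul_cancel₀ hc, map_one, one_mul] at this
    · rw [C_eq_zero fun h => hi (Fin.ext (by omega)), zero_smul]
  · rw [hent]
    rcases lt_trichotomy j' j with hlt | heq | hgt
    · exact .inl hlt
    · exact absurd heq hj'
    · refine .inr fun w => lin_mem ?_ w
      rw [form_apply]
      refine x.asHomogeneousIdeal.toIdeal.sum_mem fun i _ => ?_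
      by_cases hC : (i : ℕ) + (l.succAbove j' : ℕ) = (s : ℕ) + 1
      · have hlt : (J : ℕ) < (l.succAbove j' : ℕ) := hJ ▸ Fin.strictMono_succAbove l hgt
        rw [MvPolynomial.smul_eq_C_mul]
        exact x.asHomogeneousIdeal.toIdeal.mul_mem_left _ (hl' i (by rw [Fin.lt_def]; omega))
      · rw [C_eq_zero hC, zero_smul]
        exact x.asHomogeneousIdeal.toIdeal.zero_mem

theorem decomp {x : P n k} {l : Fin (n + 1)} (hl : MvPolynomial.X l ∉ x.asHomogeneousIdeal)
    (z : (Src n k).presheaf.stalk x) :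
    ∃ (r : (O n k (-2)).presheaf.stalk x) (w : (∐ fun _ : Fin n => O n k (-1)).presheaf.stalk x),
      z = stalkLin (yv n k) x r + stalkLin (incl l) x w := by
  let Y : Fin (n + 1) → (P n k).Modules := fun _ => O n k (-1)
  obtain ⟨r, hr⟩ := (GenHom20.bijective_coordMul (n := n) (k := k) l 1
    (a := -2) (b := -1) (by norm_num) hl).2 (stalkLin (proj Y l) x z)
  refine ⟨r, ∑ j : Fin n, stalkLin (Sigma.ι (fun _ : Fin n => O n k (-1)) j) x
    (stalkLin (proj Y (l.succAbove j)) x (z - stalkLin (yv n k) x r)), ?_⟩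
  have h0 : stalkLin (proj Y l) x (z - stalkLin (yv n k) x r) = 0 := by
    rw [map_sub, ← QCoh.stalkLin_comp, yv_proj, sub_eq_zero]
    exact hr.symm
  have h := GenHom20.stalk_decomp Y x (z - stalkLin (yv n k) x r)
  rw [Fin.sum_univ_succAbove _ l, h0, map_zero, zero_add] at h
  rw [map_sum]
  simp only [← QCoh.stalkLin_comp _ (incl (k := k) l), ι_incl]
  rw [← h, add_sub_cancel]

theorem nonempty_basis_F [CharZero k] (x : P n k) :
    Nonempty (Module.Basis (Fin (n - 1)) ((P n k).presheaf.stalk x) ((F n k).presheaf.stalk x)) ∧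
      Function.Injective (stalkLin (yv n k) x) ∧
      ∀ z, stalkLin (M n k) x z = 0 → ∃ r, stalkLin (yv n k) x r = z := by
  let R := (P n k).presheaf.stalk x
  obtain ⟨l, hl, hl'⟩ := GenHom20.exists_first_coord x
  obtain ⟨βA⟩ := GenHom20.nonempty_basis_sigma (n := n) (k := k) n (-1) x
  obtain ⟨βB⟩ := GenHom20.nonempty_basis_sigma (n := n) (k := k) (2 * n - 1) 0 x
  obtain ⟨hinj, ⟨β⟩⟩ := GenHom20.basis_cokernel_of_split (incl l ≫ M n k) x βA βB (residual hl hl')
  have hy : ∀ r, stalkLin (M n k) x (stalkLin (yv n k) x r) = 0 := fun r => by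
    rw [← QCoh.stalkLin_comp, yv_M, GenHom20.stalkLin_zero]
  refine ⟨?_, ?_, fun z hz => ?_⟩
  · let q := stalkLin (cokernel.π (incl l ≫ M n k)) x
    let q' := stalkLin (cokernel.π (M n k)) x
    have hker : LinearMap.ker q = LinearMap.ker q' := by
      rw [(GenHom20.exact_stalk_cokernel (incl l ≫ M n k) x).linearMap_ker_eq,
        (GenHom20.exact_stalk_cokernel (M n k) x).linearMap_ker_eq]
      refine le_antisymm ?_ ?_
      · rintro _ ⟨w, rfl⟩
        exact ⟨stalkLin (incl l) x w, (QCoh.stalkLin_comp _ _ _ _).symm⟩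
      · rintro _ ⟨z, rfl⟩
        obtain ⟨r, w, rfl⟩ := decomp hl z
        exact ⟨w, by rw [map_add, hy, zero_add, QCoh.stalkLin_comp]⟩
    let e := (q.quotKerEquivOfSurjective (QCoh.stalkLin_surjective _ x)).symm ≪≫ₗ Submodule.quotEquivOfEq _ _ hker ≪≫ₗ
      q'.quotKerEquivOfSurjective (QCoh.stalkLin_surjective _ x)
    exact ⟨(β.map e).reindex (finCongr (by omega))⟩
  · refine Function.Injective.of_comp (f := stalkLin (proj (fun _ : Fin (n + 1) => O n k (-1)) l) x) ?_
    rw [show (stalkLin (proj (fun _ : Fin (n + 1) => O n k (-1)) l) x) ∘ (stalkLin (yv n k) x) =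
      stalkLin (yc n k l) x from funext fun r => by rw [Function.comp_apply, ← QCoh.stalkLin_comp, yv_proj]]
    exact (GenHom20.bijective_coordMul l 1 _ hl).1
  · obtain ⟨r, w, rfl⟩ := decomp hl z
    rw [map_add, hy, zero_add, ← QCoh.stalkLin_comp, ← map_zero (stalkLin (incl l ≫ M n k) x)] at hz
    exact ⟨r, by rw [hinj hz, map_zero, add_zero]⟩

theorem isFinLocFreeOfRank_F [CharZero k] : FlatMod.IsFinLocFreeOfRank (n - 1) (F n k) := by
  haveI : AlgebraicGeometry.IsNoetherian (P n k) := CMReg.isNoetherian_projSpace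
  exact OmegaFree.isFinLocFreeOfRank_of_free_stalks
    (QCoh.isCoh_cokernel _ (CMReg.isCoh_sumTwist _ (-1)) (CMReg.isCoh_sumTwist _ 0)) _
    fun x => (nonempty_basis_F x).1

theorem mono_yv [CharZero k] : Mono (yv n k) :=
  (OX.mono_iff _).2 fun x => (ModuleCat.mono_iff_injective _).2 (nonempty_basis_F x).2.1

variable (n k) in
/-- The image of `M`. -/
abbrev K : (P n k).Modules := cokernel (yv n k)

/-- The inclusion of the image. -/
def m [CharZero k] : K n k ⟶ Tgt n k := cokernel.desc (yv n k) (M n k) yv_M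

theorem π_m [CharZero k] : cokernel.π (yv n k) ≫ m = M n k := cokernel.π_desc _ _ _

theorem mono_m [CharZero k] : Mono (m (n := n) (k := k)) := by
  refine (OX.mono_iff _).2 fun x => (ModuleCat.mono_iff_injective _).2 ?_
  show Function.Injective (stalkLin m x)
  rw [injective_iff_map_eq_zero]
  intro v hv
  obtain ⟨z, rfl⟩ := QCoh.stalkLin_surjective (cokernel.π (yv n k)) x v
  rw [← QCoh.stalkLin_comp, π_m] at hv
  obtain ⟨r, rfl⟩ := (nonempty_basis_F x).2.2 z hv
  rw [← QCoh.stalkLin_comp, cokernel.condition, GenHom20.stalkLin_zero]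

theorem shortExact₁ [CharZero k] :
    (ShortComplex.mk (yv n k) (cokernel.π (yv n k)) (cokernel.condition _)).ShortExact :=
  haveI := mono_yv (n := n) (k := k)
  { exact := ShortComplex.exact_of_g_is_cokernel _ (cokernelIsCokernel _) }

theorem m_π [CharZero k] : m ≫ cokernel.π (M n k) = 0 := by
  rw [← cancel_epi (cokernel.π (yv n k)), ← Category.assoc, π_m, cokernel.condition, comp_zero]

theorem shortExact₂ [CharZero k] : (ShortComplex.mk m (cokernel.π (M n k)) m_π).ShortExact := by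
  haveI := mono_m (n := n) (k := k)
  refine { exact := ?_ }
  let S₁ := ShortComplex.mk (M n k) (cokernel.π (M n k)) (cokernel.condition _)
  let φ : S₁ ⟶ ShortComplex.mk m (cokernel.π (M n k)) m_π :=
    { τ₁ := cokernel.π (yv n k), τ₂ := 𝟙 _, τ₃ := 𝟙 _,
      comm₁₂ := by
        show cokernel.π (yv n k) ≫ m = M n k ≫ 𝟙 _
        rw [π_m, Category.comp_id]
      comm₂₃ := by
        show 𝟙 _ ≫ cokernel.π (M n k) = cokernel.π (M n k) ≫ 𝟙 _
        rw [Category.id_comp, Category.comp_id] }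
  haveI : Epi φ.τ₁ := inferInstanceAs (Epi (cokernel.π (yv n k)))
  haveI : IsIso φ.τ₂ := inferInstanceAs (IsIso (𝟙 _))
  haveI : Mono φ.τ₃ := inferInstanceAs (Mono (𝟙 _))
  exact (ShortComplex.exact_iff_of_epi_of_isIso_of_mono φ).1 (ShortComplex.exact_of_g_is_cokernel _ (cokernelIsCokernel _))

end GrothLib.Tango28
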